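import Groth.Agent.Lib.AlgSpMor.RelNorm.Main
import Groth.Agent.Lib.AlgSpMor.RelNorm.Reduced
import Groth.Agent.S9675
import Groth.Prelude.Def_Found

/-!
# Finiteness of relative normalisation over Nagata algebraic spaces
-/

set_option autoImplicit false
set_option linter.style.haveILetI false

universe u

open CategoryTheory CategoryTheory.Limits AlgebraicGeometry Opposite
open Groth.Agent.Lib.AlgSpace Groth.Agent.Lib.AlgSpMor Groth.Agent.Lib.AlgSpMor.RelNorm

namespace Groth.Agent.Lib.AlgSpNormFinite

open AlgSp (Sp yon Representable RepWith IsAlgSpace LocP IsIntegralMor IsRelNormalization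
  IsQuasiCompactMor IsQuasiSeparatedMor)

variable {S : Scheme.{u}}

theorem finite_of_injective {A B C : Type u} [CommRing A] [CommRing B] [CommRing C]
    [IsNoetherianRing A] (φ : A →+* B) (ψ : B →+* C) (hψ : Function.Injective ψ)
    (h : (ψ.comp φ).Finite) : φ.Finite := by
  letI : Algebra A B := φ.toAlgebra
  letI : Algebra A C := (ψ.comp φ).toAlgebra
  haveI : Module.Finite A C := h
  haveI : IsNoetherian A C := isNoetherian_of_isNoetherianRing_of_finite A C
  exact Module.Finite.of_injective
    ({ toRingHom := ψ, commutes' := fun _ => rfl } : B →ₐ[A] C).toLinearMap hψ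

/-- Over an affine scheme with Nagata coordinate rings, the normalisation in a reduced space of
finite type is finite. -/
theorem isFinite_of_str {U N : Over S} [IsAffine U.left]
    (hU : ∀ V : U.left.affineOpens, CAlg.IsNagata Γ(U.left, V))
    {P : Sp S} (hP : IsAlgSpace P) {p : P ⟶ (yon S).obj U} (hqc : IsQuasiCompactMor p)
    (hqs : IsQuasiSeparatedMor p) {ν : N ⟶ U} (hν : IsIntegralHom ν.left) {g : P ⟶ (yon S).obj N}
    (h : Str p ((yon S).map ν) g)
    (hft : ∀ ⦃W : Over S⦄ (c : (yon S).obj W ⟶ P) (m : W ⟶ U), RepWith @Etale c →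
      c ≫ p = (yon S).map m → LocallyOfFiniteType m.left)
    (hred : ∀ ⦃W : Over S⦄ (c : (yon S).obj W ⟶ P), RepWith @Etale c → IsReduced W.left) :
    IsFinite ν.left := by
  obtain ⟨W, R, c, m, n, s, t, hmc, hms, -, -, hc, hcs, hm, -, -, sq⟩ :=
    exists_atlas_data hP hqc hqs
  haveI := hmc
  haveI := hms
  haveI := hred c hc
  haveI := hft c m hc hm
  haveI := hν
  haveI : IsFinite m.left.fromNormalization := Groth.Agent.S9675.result m.left hU
  haveI : IsAffine N.left := isAffine_of_isAffineHom ν.left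
  haveI : IsAffine m.left.normalization := isAffine_of_isAffineHom m.left.fromNormalization
  obtain ⟨a, ha⟩ := (yon S).map_surjective (c ≫ g)
  have haν : a ≫ ν = m := (yon S).map_injective (by
    rw [Functor.map_comp, ha, Category.assoc, h.fac, hm])
  let h₁ : m.left.normalization ⟶ N.left :=
    m.left.normalizationDesc a.left ν.left (by rw [← Over.comp_left, haν])
  have h₁a : m.left.toNormalization ≫ h₁ = a.left := m.left.toNormalization_normalizationDesc ..
  have h₁ν : h₁ ≫ ν.left = m.left.fromNormalization := m.left.normalizationDesc_comp ..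
  let I := h₁.ker
  let M : Over S := Over.mk (I.subschemeι ≫ N.hom)
  let i : M ⟶ N := Over.homMk I.subschemeι rfl
  haveI : Mono i.left := inferInstanceAs (Mono I.subschemeι)
  haveI : Mono i := Over.mono_of_mono_left i
  let a' : W ⟶ M := Over.homMk (m.left.toNormalization ≫ h₁.toImage) (by
    change (_ ≫ _) ≫ h₁.imageι ≫ N.hom = W.hom
    rw [Category.assoc, Scheme.Hom.toImage_imageι_assoc, reassoc_of% h₁a, Over.w])
  have hai : a' ≫ i = a := Over.OverMorphism.ext (by
    change (_ ≫ _) ≫ h₁.imageι = _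
    rw [Category.assoc, Scheme.Hom.toImage_imageι, h₁a])
  haveI := isLocallySurjective_of_etale hc hcs
  obtain ⟨g', hg'⟩ := exists_desc c sq ((yon S).map a') (by
    rw [← cancel_mono ((yon S).map i), Category.assoc, Category.assoc, ← Functor.map_comp, hai, ha,
      reassoc_of% sq.w])
  haveI : Epi c := (Sheaf.isLocallySurjective_iff_epi' (Type (u + 1)) c).1 inferInstance
  have hgi : g' ≫ (yon S).map i = g := by
    rw [← cancel_epi c, reassoc_of% hg', ← Functor.map_comp, hai, ha]
  have hn := h.isRelNormalization (IsAlgSpace.yon_obj U)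
  haveI : IsIntegralHom (i ≫ ν).left := inferInstanceAs (IsIntegralHom (I.subschemeι ≫ ν.left))
  obtain ⟨k₀, ⟨k1, k2⟩, -⟩ := hn.2.2 (IsAlgSpace.yon_obj M) ((yon S).map (i ≫ ν)) g'
    (AffineDescent.isIntegralMor_iff.2 ((AlgSp.repWith_yon_map_iff _ _).2 ‹_›))
    (by rw [Functor.map_comp, reassoc_of% hgi, hn.1])
  obtain ⟨k, rfl⟩ := (yon S).map_surjective k₀
  obtain ⟨_, -, huq⟩ := hn.2.2 (IsAlgSpace.yon_obj N) ((yon S).map ν) g hn.2.1 hn.1
  have e : k ≫ i = 𝟙 N := (yon S).map_injective ((huq _ ⟨?_, ?_⟩).trans (huq _ ⟨?_, ?_⟩).symm)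
  · haveI : IsIso i := ⟨k, by rw [← cancel_mono i, Category.assoc, e, Category.comp_id,
      Category.id_comp], e⟩
    haveI : IsIso I.subschemeι := inferInstanceAs (IsIso ((Over.forget S).map i))
    have hI : I = ⊥ := Scheme.isIso_subschemeι_iff_eq_bot I |>.1 inferInstance
    haveI : QuasiCompact h₁ := by
      haveI : IsAffineHom h₁ := isAffineHom_of_isAffine _
      infer_instance
    have hinj : Function.Injective h₁.appTop.hom := by
      rw [RingHom.injective_iff_ker_eq_bot]
      refine (h₁.ker_apply ⟨⊤, isAffineOpen_top _⟩).symm.trans ?_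
      rw [show h₁.ker = ⊥ from hI, Scheme.IdealSheafData.ideal_bot]
      rfl
    haveI : IsNoetherianRing Γ(U.left, ⊤) := (hU ⟨⊤, isAffineOpen_top _⟩).1
    rw [HasAffineProperty.iff_of_isAffine (P := @IsFinite)]
    refine ⟨inferInstance, ?_⟩
    refine finite_of_injective ν.left.appTop.hom h₁.appTop.hom hinj ?_
    have hfin := ((HasAffineProperty.iff_of_isAffine (P := @IsFinite)
      (f := m.left.fromNormalization)).1 inferInstance).2
    rw [← CommRingCat.hom_comp, ← Scheme.Hom.comp_appTop, h₁ν]
    exact hfin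
  · rw [Functor.map_comp, reassoc_of% k1, hgi]
  · rw [← Functor.map_comp, Category.assoc, Functor.map_comp]
    exact k2
  · rw [CategoryTheory.Functor.map_id, Category.comp_id]
  · rw [CategoryTheory.Functor.map_id, Category.id_comp]

theorem isFiniteMor_of_isRelNormalization {X Y Y' : AlgSp.Space S} (f : X ⟶ Y)
    (hY : AlgSp.EtaleLocally (fun U => ∀ V : U.Opens, IsAffineOpen V → CAlg.IsNagata ↑Γ(U, V)) Y.obj)
    (hqs : IsQuasiSeparatedMor f.hom) (hft : AlgSp.IsFiniteTypeMor f.hom)
    (hX : AlgSp.EtaleLocally (fun U => IsReduced U) X.obj) (ν : Y' ⟶ Y) (f' : X ⟶ Y')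
    (hn : IsRelNormalization f.hom ν.hom f'.hom) : AlgSp.IsFiniteMor ν.hom := by
  have hstr := str_of_isRelNormalization Y.property X.property hft.2 hqs Y'.property hn
  rw [AffineDescent.isFiniteMor_iff]
  haveI := AffineDescent.isLocalAtTarget_isFinite.{u}
  obtain ⟨U, p, hp, hps, hU⟩ := hY
  refine repWith_of_cover_opens _ AffineDescent.effective_isFinite Y.property.diag hp hps fun O => ?_
  have he := repWith_etale_comp hp (Topo.opensOverι O.1) (inferInstanceAs (Etale O.1.ι))
  obtain ⟨N, νU, q, sqN, hνU⟩ := repWith_exists (AffineDescent.isIntegralMor_iff.1 hn.2.1)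
    ((yon S).map (Topo.opensOverι O.1) ≫ p)
  haveI : IsAffine (Topo.opensOver O.1).left := O.2
  refine ⟨N, νU, q, sqN, ?_⟩
  have sqP := IsPullback.of_hasPullback f.hom ((yon S).map (Topo.opensOverι O.1) ≫ p)
  have hS : Str (pullback.snd f.hom ((yon S).map (Topo.opensOverι O.1) ≫ p)) ((yon S).map νU)
      (sqN.lift (pullback.fst f.hom _ ≫ f'.hom) (pullback.snd f.hom _)
        (by rw [Category.assoc, hn.1, pullback.condition])) :=
    hstr.baseChange Y.property (IsAlgSpace.yon_obj _) (locP_smooth_of_etale he) sqP sqN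
      (IsPullback.lift_fst _ _ _ _) (IsPullback.lift_snd _ _ _ _)
  haveI : MorphismProperty.IsStableUnderComposition (@Etale : MorphismProperty Scheme.{u}) :=
    ⟨fun f g (_ : Etale f) (_ : Etale g) => inferInstanceAs (Etale (f ≫ g))⟩
  refine isFinite_of_str (U := Topo.opensOver O.1)
    (fun V => hU (O.1.ι ''ᵁ V.1) (V.2.image_of_isOpenImmersion O.1.ι))
    (isAlgSpace_of_isPullback sqP Y.property.diag X.property (IsAlgSpace.yon_obj _))
    (Perm.isQuasiCompactMor_baseChange sqP hft.2) (Sep.repWith_diagonal_baseChange sqP hqs) hνU hS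
    (fun W c m hc hm => ?_) fun W c hc => ?_
  · exact hft.1 (c ≫ pullback.fst _ _) ((yon S).map (Topo.opensOverι O.1) ≫ p) m
      (repWith_comp hc (repWith_baseChange sqP.flip he)) he
      (by rw [Category.assoc, sqP.w, reassoc_of% hm])
  · obtain ⟨V, b, hb, hbs, hV⟩ := hX
    have hd : RepWith @Etale (c ≫ pullback.fst f.hom _) :=
      repWith_comp hc (repWith_baseChange sqP.flip he)
    obtain ⟨R, r₁, r₂, sqR⟩ := exists_isPullback_yon X.property.diag (c ≫ pullback.fst f.hom _) b
    haveI : Etale r₁.left := repWith_property hb sqR.flip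
    haveI : Surjective r₁.left := repWith_property hbs sqR.flip
    haveI : Etale r₂.left := repWith_property hd sqR
    haveI := hV
    haveI : IsReduced R.left := Groth.Agent.S7179.result r₂.left
    exact Groth.Agent.H56.GeomDescent.isReduced_of_flat_surjective r₁.left

end Groth.Agent.Lib.AlgSpNormFinite
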